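import Cfsg.Agent.Lib.Invol.CAClass
import Cfsg.Agent.Lib.Invol.StronglyEmbedded
import Cfsg.Agent.Lib.Critical.Basic
import Cfsg.Agent.S1477
import Cfsg.Agent.S0215
import Cfsg.Agent.S0346
import Cfsg.Prelude.Def_LieExceptional

/-!
# A simple CN-group is a CIT-group

If an involution centraliser `C` is not a 2-group, a maximal nilpotent subgroup `H` over `C` is a TI
Hall subgroup of odd index whose normaliser is strongly embedded. So the involutions of `H` are central
in `H`, the cosets of the normaliser form a Zassenhaus group with kernel `H`, and `H` is a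
prime-power group, which it is not.
-/

set_option autoImplicit false
set_option linter.unusedSectionVars false

namespace CfsgLib.CNSimple

open CfsgLib.Invol.CASimple

variable {G : Type*} [Group G] [Finite G]

theorem exists_maximal_nilpotent {C : Subgroup G} (hC : Group.IsNilpotent C) :
    ∃ H : Subgroup G, Group.IsNilpotent H ∧ C ≤ H ∧ ∀ L : Subgroup G, Group.IsNilpotent L → H ≤ L → L = H := by
  obtain ⟨H, hCH, hH, hmax⟩ := Finite.exists_le_maximal (p := fun L : Subgroup G => Group.IsNilpotent L) hC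
  exact ⟨H, hH, hCH, fun L hL hle => le_antisymm (hmax hL hle) hle⟩

theorem not_isPGroup_of_nilpotent_top [IsSimpleGroup G] (hna : ∃ a b : G, a * b ≠ b * a) :
    ¬ Group.IsNilpotent (⊤ : Subgroup G) := by
  intro h
  have := h
  have : Group.IsNilpotent G :=
    Group.nilpotent_of_surjective (Subgroup.topEquiv (G := G)).toMonoidHom (MulEquiv.surjective _)
  obtain ⟨a, b, hab⟩ := hna
  exact hab (IsSimpleGroup.comm_iff_isSolvable.2 inferInstance a b)

/-- In a simple CN-group every involution centraliser is a 2-group. -/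
theorem cit [IsSimpleGroup G] (hna : ∃ a b : G, a * b ≠ b * a) (hCN : Cfsg.IsCNGroup G) :
    ∀ t : G, orderOf t = 2 → IsPGroup 2 (Subgroup.centralizer ({t} : Set G)) := by
  classical
  intro t ht
  by_contra hnp
  haveI : Fact (Nat.Prime 2) := ⟨Nat.prime_two⟩
  obtain ⟨ht2, ht1⟩ := involution_iff.1 ht
  obtain ⟨H, hH, hCH, hmax⟩ := exists_maximal_nilpotent (hCN t ht1)
  have htH : t ∈ H := hCH (mem_cent.2 (Commute.refl t))
  have h2H : 2 ∣ Nat.card H := by
    rw [← ht]
    exact Subgroup.orderOf_dvd_natCard H htH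
  have hnpp : ¬ IsPrimePow (Nat.card H) := by
    intro hpp
    obtain ⟨p, k, hp, -, hk⟩ := (isPrimePow_nat_iff _).1 hpp
    rw [← hk] at h2H
    have hp2 : p = 2 := ((Nat.prime_dvd_prime_iff_eq Nat.prime_two hp).1 (Nat.prime_two.dvd_of_dvd_pow h2H)).symm
    exact hnp ((IsPGroup.of_card (n := k) (by rw [← hk, hp2])).to_le hCH)
  have h1H : Nat.card H ≠ 1 := fun e => by rw [e] at h2H; omega
  obtain ⟨hhall, hti', hcle'⟩ := Cfsg.Agent.S1477.result hCN H hH hmax
  have hti := hti' hnpp h1H
  have hcle := hcle' hti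
  have hodd : ¬ 2 ∣ H.index := fun h => Nat.not_coprime_of_dvd_of_dvd (by norm_num) h2H h hhall
  have hnn : ¬ H.Normal := fun hn => by
    rcases hn.eq_bot_or_eq_top with e | e
    · exact ht1 (Subgroup.mem_bot.1 (e ▸ htH))
    · exact not_isPGroup_of_nilpotent_top hna (e ▸ hH)
  -- the normaliser is strongly embedded
  have hmem : ∀ g : G, ∀ x ∈ H, x ≠ 1 → g * x * g⁻¹ ∈ H → g ∈ nA H := by
    intro g x hx hx1 hgx
    by_contra hg
    have hne : H.map (MulAut.conj g).toMonoidHom ≠ H := fun e =>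
      hg (Subgroup.mem_normalizer_iff_map_conj_eq.2 e)
    have hm : g * x * g⁻¹ ∈ H ⊓ H.map (MulAut.conj g).toMonoidHom := ⟨hgx, x, hx, rfl⟩
    rw [hti g hne, Subgroup.mem_bot] at hm
    exact hx1 (conj_eq_one_iff.1 hm)
  have hstr : Cfsg.IsStronglyEmbedded (nA H) := by
    refine ⟨fun e => hnn (Subgroup.normalizer_eq_top_iff.1 e),
      even_iff_two_dvd.2 (h2H.trans (Subgroup.card_dvd_of_le Subgroup.le_normalizer)), fun g hg => ?_⟩
    rw [← Nat.not_even_iff_odd, even_iff_two_dvd]
    intro hd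
    obtain ⟨⟨y, hy, x, hx, hxy⟩, hy2⟩ := exists_prime_orderOf_dvd_card' 2 hd
    rw [← Subgroup.orderOf_coe] at hy2
    change orderOf y = 2 at hy2
    have hxy' : g * x * g⁻¹ = y := hxy
    obtain ⟨hyy, hy1⟩ := involution_iff.1 hy2
    have hx1 : x ≠ 1 := fun e => hy1 (by rw [← hxy', e]; group)
    have hxx : x * x = 1 := by
      have : g * (x * x) * g⁻¹ = 1 := by rw [← hyy, ← hxy']; group
      exact conj_eq_one_iff.1 this
    exact hg (hmem g x (mem_of_sq_one hodd hx hxx) hx1 (hxy' ▸ mem_of_sq_one hodd hy hyy))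
  obtain ⟨u, hu, huN⟩ := CfsgLib.Invol.strongly_exists_invol_not_mem hstr
  -- the involutions of `H` are central
  obtain ⟨z, hzH, hz, hzc⟩ : ∃ z ∈ H, orderOf z = 2 ∧ ∀ a ∈ H, Commute a z := by
    haveI := hH
    obtain ⟨T⟩ : Nonempty (Sylow 2 H) := inferInstance
    haveI : (T : Subgroup H).Normal := inferInstance
    have hne := CfsgLib.Critical.inf_center_ne_bot (T : Subgroup H) (T.ne_bot_of_dvd_card h2H)
    haveI : Nontrivial ((T : Subgroup H) ⊓ Subgroup.center H : Subgroup H) := (Subgroup.nontrivial_iff_ne_bot _).2 hne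
    have hp : IsPGroup 2 ((T : Subgroup H) ⊓ Subgroup.center H : Subgroup H) := T.2.to_le inf_le_left
    obtain ⟨z, hz⟩ := exists_prime_orderOf_dvd_card' 2 ((hp.card_eq_or_dvd).resolve_left (Finite.one_lt_card).ne')
    refine ⟨((z : H) : G), (z : H).2, ?_, fun a ha => ?_⟩
    · rw [Subgroup.orderOf_coe, Subgroup.orderOf_coe, hz]
    · exact congrArg Subtype.val (Subgroup.mem_center_iff.1 z.2.2 ⟨a, ha⟩)
  have hcent : ∀ x ∈ H, orderOf x = 2 → Subgroup.centralizer ({x} : Set G) = H := by
    intro x hx hx2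
    obtain ⟨d, hd, rfl⟩ := CfsgLib.Invol.strongly_inter_transitive hstr hu huN hz
      (Subgroup.le_normalizer hzH) hx2 (Subgroup.le_normalizer hx)
    refine le_antisymm (hcle _ hx fun e => (involution_iff.1 hx2).2 e) fun a ha => ?_
    rw [cent_conj, mem_cent]
    refine hzc _ ?_
    have := (Subgroup.mem_normalizer_iff.1 (inv_mem hd.1) a).1 ha
    rwa [inv_inv] at this
  have hS : Setup H t :=
    { invC := fun x hx hxx hx1 => hcent x hx (involution_iff.2 ⟨hxx, hx1⟩)
      sq := ht2
      ne := ht1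
      eq := (hcent t htH ht).symm
      nonnormal := hnn
      sylow := hodd
      cle := fun x hx hx1 => (hcle x hx hx1).trans Subgroup.le_normalizer }
  -- at least two involutions
  have he : 2 ≤ (invA H).ncard := by
    by_contra hlt
    have huniq : ∀ x ∈ H, x * x = 1 → x ≠ 1 → x = t := fun x hx h1 h2 => by
      by_contra hne
      exact hlt ((Set.one_lt_ncard_iff (Set.toFinite _)).2 ⟨x, t, ⟨hx, h1, h2⟩, ⟨htH, ht2, ht1⟩, hne⟩)
    have htz : IsPGroup 2 (Subgroup.zpowers t) := IsPGroup.of_card (n := 1) (by rw [Nat.card_zpowers, ht, pow_one])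
    obtain ⟨P, hP⟩ := htz.exists_le_sylow
    have htP : t ∈ (P : Subgroup G) := hP (Subgroup.mem_zpowers t)
    have hiso : ∀ g : G, g * t * g⁻¹ ∈ P → g * t * g⁻¹ = t := by
      intro g hg
      obtain ⟨i, hi⟩ := P.2 ⟨g * t * g⁻¹, hg⟩
      set y := g * t * g⁻¹ with hy
      have hy1 : y ≠ 1 := fun e => ht1 (conj_eq_one_iff.1 e)
      have hyy : y * y = 1 := by
        rw [hy, show g * t * g⁻¹ * (g * t * g⁻¹) = g * (t * t) * g⁻¹ by group, ht2, mul_one, mul_inv_cancel]
      obtain ⟨w, hw1, hw2, hwy, hwt⟩ : ∃ w : G, w ≠ 1 ∧ w * w = 1 ∧ Commute w y ∧ Commute w t := by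
        haveI : Nontrivial (P : Subgroup G) := ⟨⟨⟨t, htP⟩, 1, fun e => ht1 (congrArg Subtype.val e)⟩⟩
        have := P.2.center_nontrivial
        obtain ⟨c, hc⟩ := exists_prime_orderOf_dvd_card' (G := Subgroup.center (P : Subgroup G)) 2
          (((P.2.to_subgroup _).card_eq_or_dvd).resolve_left (Finite.one_lt_card).ne')
        obtain ⟨hc2, hc1⟩ := involution_iff.1 hc
        exact ⟨_, fun e => hc1 (Subtype.ext (Subtype.ext e)),
          congrArg (fun w : Subgroup.center (P : Subgroup G) => ((w : (P : Subgroup G)) : G)) hc2,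
          (congrArg Subtype.val (Subgroup.mem_center_iff.1 c.2 ⟨y, hg⟩)).symm,
          (congrArg Subtype.val (Subgroup.mem_center_iff.1 c.2 ⟨t, htP⟩)).symm⟩
      have hwH : w ∈ H := hS.mem_of_commute htH ht2 ht1 hwt
      have hwt' : w = t := huniq w hwH hw2 hw1
      subst hwt'
      exact huniq y (hS.mem_of_commute htH ht2 ht1 hwy.symm) hyy hy1
    obtain ⟨N, hN, hNodd, hNc⟩ := Cfsg.Agent.S0215.result P t ht htP hiso
    rcases hN.eq_bot_or_eq_top with e | e
    · refine hnn ?_
      have hall : H = ⊤ := top_le_iff.1 fun g _ => hS.mem_of_commute htH ht2 ht1 (by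
        have := hNc g
        rw [e, Subgroup.mem_bot, mul_inv_eq_one, mul_inv_eq_iff_eq_mul] at this
        exact this.symm)
      rw [hall]; infer_instance
    · rw [e, Subgroup.card_top, ← Nat.not_even_iff_odd, even_iff_two_dvd] at hNodd
      exact hNodd (ht ▸ orderOf_dvd_natCard t)
  -- Zassenhaus
  haveI : Fintype (G ⧸ nA H) := Fintype.ofFinite _
  have hpp := Cfsg.Agent.S0346.result (hS.isZassenhaus he)
  apply hnpp
  obtain ⟨c, hc⟩ : ∃ c : G ⧸ nA H, c ≠ base H :=
    ⟨QuotientGroup.mk u, fun e => huN (mk_eq_base_iff.1 e)⟩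
  have hf : Function.Bijective (fun a : H => (⟨(a : G) • c, fun e => hc (MulAction.injective (a : G)
      (e.trans (smul_base_iff.2 (Subgroup.le_normalizer a.2)).symm))⟩ : {d : G ⧸ nA H // d ≠ base H})) := by
    refine ⟨fun a b e => ?_, fun d => ?_⟩
    · exact (hS.regular he c _ hc ((fun h => hc (MulAction.injective (b : G)
        (h.trans (smul_base_iff.2 (Subgroup.le_normalizer b.2)).symm))))).unique
        (congrArg Subtype.val e) rfl
    · obtain ⟨a, ha, -⟩ := hS.regular he c d.1 hc d.2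
      exact ⟨a, Subtype.ext ha⟩
  rw [Nat.card_eq_of_bijective _ hf]
  have : Nat.card {d : G ⧸ nA H // d ≠ base H} = Fintype.card (G ⧸ nA H) - 1 := by
    rw [Nat.card_eq_fintype_card, Fintype.card_subtype_compl, Fintype.card_subtype_eq]
  rwa [this]

end CfsgLib.CNSimple
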